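import Mathlib.AlgebraicGeometry.Morphisms.FiniteType
import Mathlib.AlgebraicGeometry.Morphisms.QuasiCompact
import Mathlib.AlgebraicGeometry.Morphisms.FinitePresentation
import Mathlib.AlgebraicGeometry.Noetherian
import Mathlib.Analysis.Complex.Basic
import Mathlib.Topology.Irreducible
import Mathlib.Topology.JacobsonSpace
import Mathlib.Topology.Constructible

set_option linter.unusedSectionVars false
set_option linter.unusedVariables false
set_option linter.unusedSimpArgs false
set_option autoImplicit false
set_option linter.style.haveILetI false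
set_option maxHeartbeats 400000

/-!
# Irreducibility of the total space from irreducibility of the general fibre
-/

namespace Groth.Agent.Helper6.IrrFibLib

open AlgebraicGeometry CategoryTheory TopologicalSpace Topology

/-- dichotomy for constructible sets in an irreducible space: they contain a non-empty open
subset or their complement does -/
lemma constructible_dichotomy {X : Type*} [TopologicalSpace X] [IrreducibleSpace X] {s : Set X}
    (hs : IsConstructible s) :
    (∃ U : Set X, IsOpen U ∧ U.Nonempty ∧ U ⊆ s) ∨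
      (∃ U : Set X, IsOpen U ∧ U.Nonempty ∧ U ⊆ sᶜ) := by
  induction hs using IsConstructible.empty_union_induction with
  | open_retrocompact U hUopen hUcomp =>
    rcases U.eq_empty_or_nonempty with rfl | hne
    · right; exact ⟨Set.univ, isOpen_univ, Set.univ_nonempty, by simp⟩
    · left; exact ⟨U, hUopen, hne, subset_rfl⟩
  | union s hs t ht hs' ht' =>
    rcases hs' with ⟨U, hU, hne, hUs⟩ | ⟨U, hU, hne, hUs⟩
    · left; exact ⟨U, hU, hne, hUs.trans Set.subset_union_left⟩
    · rcases ht' with ⟨V, hV, hne', hVt⟩ | ⟨V, hV, hne', hVt⟩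
      · left; exact ⟨V, hV, hne', hVt.trans Set.subset_union_right⟩
      · right
        refine ⟨U ∩ V, hU.inter hV, nonempty_preirreducible_inter hU hV hne hne', ?_⟩
        rw [Set.compl_union]; exact Set.inter_subset_inter hUs hVt
  | compl s hs hs' =>
    rcases hs' with h | h
    · right; simp only [compl_compl]; exact h
    · left; exact h

/-- in an irreducible space a finite family of non-empty open sets has a common point -/
lemma nonempty_biInter_of_finite {X : Type*} [TopologicalSpace X] [IrreducibleSpace X]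
    {ι : Type*} (T : Set ι) (hT : T.Finite) (O : ι → Set X) (hO : ∀ i ∈ T, IsOpen (O i))
    (hne : ∀ i ∈ T, (O i).Nonempty) : (⋂ i ∈ T, O i).Nonempty := by
  induction T, hT using Set.Finite.induction_on with
  | empty => simp
  | @insert a S ha hS ih =>
    rw [Set.biInter_insert]
    have h1 : (⋂ i ∈ S, O i).Nonempty :=
      ih (fun i hi => hO i (Set.mem_insert_of_mem _ hi))
        (fun i hi => hne i (Set.mem_insert_of_mem _ hi))
    have h2 : IsOpen (⋂ i ∈ S, O i) :=
      hS.isOpen_biInter (fun i hi => hO i (Set.mem_insert_of_mem _ hi))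
    exact nonempty_preirreducible_inter (hO a (Set.mem_insert _ _)) h2
      (hne a (Set.mem_insert _ _)) h1

theorem irreducibleSpace_of_fibres (Y Z : Scheme.{0}) (g : Z ⟶ Spec (CommRingCat.of ℂ))
    (f : Y ⟶ Z)
    [LocallyOfFiniteType g] [QuasiCompact g] [LocallyOfFiniteType f] [QuasiCompact f]
    [IrreducibleSpace Z]
    (hgen : ∃ V : Z.Opens, (V : Set Z).Nonempty ∧
      ∀ z ∈ V, IsClosed ({z} : Set Z) → IsIrreducible (f.base ⁻¹' {z}))
    (hdom : ∀ W ∈ irreducibleComponents Y, Dense (f.base '' W)) :
    IrreducibleSpace Y := by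
  haveI : IsLocallyNoetherian Z := LocallyOfFiniteType.isLocallyNoetherian g
  haveI : CompactSpace Z := QuasiCompact.compactSpace_of_compactSpace g
  haveI : IsNoetherian Z := {}
  haveI : IsLocallyNoetherian Y := LocallyOfFiniteType.isLocallyNoetherian f
  haveI : CompactSpace Y := QuasiCompact.compactSpace_of_compactSpace f
  haveI : IsNoetherian Y := {}
  haveI : JacobsonSpace Z := LocallyOfFiniteType.jacobsonSpace g
  obtain ⟨V, hVne, hV⟩ := hgen
  have hfin : (irreducibleComponents Y).Finite := NoetherianSpace.finite_irreducibleComponents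
  have hcons : ∀ W ∈ irreducibleComponents Y, IsConstructible (f.base '' Wᶜ) := by
    intro W hW
    apply f.isConstructible_image
    have hopen : IsOpen Wᶜ := (isClosed_of_mem_irreducibleComponents W hW).isOpen_compl
    exact IsRetrocompact.isConstructible hopen (fun U hU hUo => NoetherianSpace.isCompact _)
  have key : ∃ W ∈ irreducibleComponents Y, ∃ V' : Set Z, IsOpen V' ∧ V'.Nonempty ∧
      f.base ⁻¹' V' ⊆ W := by
    by_contra hcon
    push Not at hcon
    have h1 : ∀ W ∈ irreducibleComponents Y,
        ∃ U : Set Z, IsOpen U ∧ U.Nonempty ∧ U ⊆ f.base '' Wᶜ := by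
      intro W hW
      rcases constructible_dichotomy (hcons W hW) with h | ⟨U, hU, hne, hUs⟩
      · exact h
      · exfalso
        obtain ⟨y, hy, hyW⟩ := Set.not_subset.mp (hcon W hW U hU hne)
        exact hUs hy ⟨y, hyW, rfl⟩
    choose! O hO using h1
    have h2 : (⋂ W ∈ irreducibleComponents Y, O W).Nonempty :=
      nonempty_biInter_of_finite _ hfin O (fun W hW => (hO W hW).1) (fun W hW => (hO W hW).2.1)
    have h3 : ((V : Set Z) ∩ ⋂ W ∈ irreducibleComponents Y, O W).Nonempty :=
      nonempty_preirreducible_inter V.2 (hfin.isOpen_biInter (fun W hW => (hO W hW).1)) hVne h2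
    obtain ⟨z, ⟨hzV, hzO⟩, hzc⟩ := nonempty_inter_closedPoints h3
      ((V.2.inter (hfin.isOpen_biInter (fun W hW => (hO W hW).1))).isLocallyClosed)
    have hirr := hV z hzV hzc
    obtain ⟨W₀, hW₀, hsub⟩ := exists_mem_irreducibleComponents_subset_of_isIrreducible _ hirr
    have hz0 : z ∈ O W₀ := Set.mem_iInter₂.mp hzO W₀ hW₀
    obtain ⟨y, hyW, hyz⟩ := (hO W₀ hW₀).2.2 hz0
    exact hyW (hsub hyz)
  obtain ⟨W₀, hW₀, V', hV'o, hV'ne, hV'W⟩ := key
  have hall : ∀ W ∈ irreducibleComponents Y, W = W₀ := by
    intro W hW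
    obtain ⟨z, hzV', ⟨y, hyW, rfl⟩⟩ := (hdom W hW).inter_open_nonempty V' hV'o hV'ne
    have hWirr : IsIrreducible W := hW.1
    have h1 : W ⊆ closure (W ∩ f.base ⁻¹' V') :=
      subset_closure_inter_of_isPreirreducible_of_isOpen hWirr.isPreirreducible
        (hV'o.preimage f.continuous) ⟨y, hyW, hzV'⟩
    have h2 : closure (W ∩ f.base ⁻¹' V') ⊆ W₀ :=
      closure_minimal (Set.inter_subset_right.trans hV'W)
        (isClosed_of_mem_irreducibleComponents W₀ hW₀)
    exact hW.eq_of_subset hW₀.1 (h1.trans h2)
  have huniv : W₀ = Set.univ := by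
    apply Set.eq_univ_of_univ_subset
    rw [← sUnion_irreducibleComponents]
    exact Set.sUnion_subset fun W hW => (hall W hW).le
  rw [irreducibleSpace_def]
  show IsIrreducible (Set.univ : Set Y)
  rw [← huniv]
  exact hW₀.1

end Groth.Agent.Helper6.IrrFibLib
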